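import Groth.Agent.CAlg.K69.EtaleLoc
import Groth.Agent.S0558
import Groth.Agent.LoccohB.FibreReg
import Groth.Agent.UnramA.SmoothDim
import Mathlib.RingTheory.Unramified.LocalStructure
import Mathlib.RingTheory.Etale.Locus
import Mathlib.RingTheory.KrullDimension.NonZeroDivisors
import Mathlib.RingTheory.KrullDimension.Regular

/-! Étale algebras over a polynomial ring over a field. -/

set_option autoImplicit false
universe u

open scoped TensorProduct

namespace K653.PolyEtale

theorem ringKrullDim_eq (A B : Type u) [CommRing A] [CommRing B] [Algebra A B] [Algebra.Etale A B]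
    (p : Ideal A) [p.IsPrime] (q : Ideal B) [q.IsPrime] [q.LiesOver p]
    [IsNoetherianRing (Localization.AtPrime p)] :
    ringKrullDim (Localization.AtPrime q) = ringKrullDim (Localization.AtPrime p) := by
  have hN := (K69.EtaleLoc.isNoetherianRing_iff A B p q).1 inferInstance
  let := Localization.AtPrime.algebraOfLiesOver p q
  have hloc : IsLocalHom (algebraMap (Localization.AtPrime p) (Localization.AtPrime q)) := by
    rw [Localization.AtPrime.IsLiesOverAlgebra.algebraMap_eq (p := p) (P := q)]
    infer_instance
  have := K69.EtaleLoc.essFiniteType A B p q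
  have : Algebra.FormallyUnramified (Localization.AtPrime p) (Localization.AtPrime q) :=
    inferInstance
  have hm : (IsLocalRing.maximalIdeal (Localization.AtPrime p)).map
      (algebraMap (Localization.AtPrime p) (Localization.AtPrime q)) =
      IsLocalRing.maximalIdeal (Localization.AtPrime q) :=
    Algebra.FormallyUnramified.map_maximalIdeal
  exact Groth.Agent.Etbase.EtaleStalk.ringKrullDim_eq hm

variable {k : Type u} [Field k] {n : ℕ}

local notation "𝒫" => MvPolynomial (Fin n) k

theorem regular_dim {E : Type u} [CommRing E] [Algebra (MvPolynomial (Fin n) k) E]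
    [Algebra.Etale (MvPolynomial (Fin n) k) E] (m : Ideal E) [m.IsMaximal] :
    IsRegularLocalRing (Localization.AtPrime m) ∧ ringKrullDim (Localization.AtPrime m) = n := by
  let p : Ideal 𝒫 := m.under 𝒫
  have hp : p.IsMaximal := Groth.Agent.UnramA.SmoothDim.isMaximal_under m
  have hreg : IsRegularLocalRing (Localization.AtPrime p) := inferInstance
  obtain ⟨-, hdim⟩ := Groth.Agent.LoccohB.FibreReg.cm_of_ringEquiv_mvPolynomial k n 𝒫
    (RingEquiv.refl _) p
  have hreg' := (K69.EtaleLoc.isRegularLocalRing_iff 𝒫 E p m).1 hreg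
  refine ⟨hreg', ?_⟩
  rw [ringKrullDim_eq 𝒫 E p m, hdim]

/-- A surjection of a regular local ring onto a ring of the same dimension is an isomorphism. -/
theorem injective_of_surjective {B C : Type u} [CommRing B] [IsRegularLocalRing B] [CommRing C]
    (f : B →+* C) (hf : Function.Surjective f) (n : ℕ) (hB : ringKrullDim B = n)
    (h : ringKrullDim C = n) :
    Function.Injective f := by
  rw [injective_iff_map_eq_zero]
  by_contra hne
  push Not at hne
  obtain ⟨a, ha, ha0⟩ := hne
  have hd : IsDomain B := Groth.Agent.S0558.result B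
  have h1 : ringKrullDim (B ⧸ Ideal.span {a}) + 1 ≤ ringKrullDim B :=
    ringKrullDim_quotient_succ_le_of_nonZeroDivisor (mem_nonZeroDivisors_of_ne_zero ha0)
  have h2 : ringKrullDim C ≤ ringKrullDim (B ⧸ Ideal.span {a}) := by
    let g : (B ⧸ Ideal.span {a}) →+* C := Ideal.Quotient.lift _ f (fun x hx => by
      obtain ⟨y, rfl⟩ := Ideal.mem_span_singleton'.1 hx
      rw [map_mul, ha, mul_zero])
    exact ringKrullDim_le_of_surjective g (fun c => by
      obtain ⟨b, rfl⟩ := hf c
      exact ⟨Ideal.Quotient.mk _ b, rfl⟩)
  rw [h] at h2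
  rw [hB] at h1
  have h3 : ((n : ℕ) : WithBot ℕ∞) + 1 ≤ (n : ℕ) := le_trans (by gcongr) h1
  have h4 : n + 1 ≤ n := by exact_mod_cast h3
  omega

/-- Unramified of the right dimension implies étale. -/
theorem isEtaleAt {A : Type u} [CommRing A] [Algebra (MvPolynomial (Fin n) k) A]
    [Algebra.FiniteType (MvPolynomial (Fin n) k) A] (m : Ideal A) [m.IsMaximal]
    [Algebra.IsUnramifiedAt (MvPolynomial (Fin n) k) m]
    (hdim : ringKrullDim (Localization.AtPrime m) = n) :
    Algebra.IsEtaleAt (MvPolynomial (Fin n) k) m := by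
  obtain ⟨f, hf, E, φ, hφ⟩ :=
    Algebra.IsUnramifiedAt.exists_hasStandardEtaleSurjectionOn (R := 𝒫) m
  let Af := Localization.Away f
  let q' : Ideal Af := m.map (algebraMap A Af)
  have hdisj : Disjoint (Submonoid.powers f : Set A) (m : Set A) := by
    rwa [Ideal.disjoint_powers_iff_notMem_of_isPrime]
  have hq'p : q'.IsPrime := IsLocalization.isPrime_of_isPrime_disjoint (.powers f) _ _ inferInstance
    hdisj
  have hq'c : q'.comap (algebraMap A Af) = m :=
    IsLocalization.under_map_of_isPrime_disjoint (.powers f) _ inferInstance hdisj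
  have hJ : IsJacobsonRing A := isJacobsonRing_of_finiteType (A := 𝒫)
  have hq'm : q'.IsMaximal := IsLocalization.isMaximal_of_isMaximal_disjoint f m inferInstance hf
  let p' : Ideal E.Ring := q'.comap φ
  have hp'm : p'.IsMaximal := Ideal.comap_isMaximal_of_surjective φ hφ
  obtain ⟨hreg, hd⟩ := regular_dim (k := k) (n := n) p'
  let ψ : Localization.AtPrime p' →+* Localization.AtPrime q' :=
    Localization.localRingHom p' q' φ.toRingHom rfl
  have hψs : Function.Surjective ψ := RingHom.surjective_localRingHom_of_surjective φ.toRingHom hφ q'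
  have hpc : (Ideal.comap (algebraMap A Af) q').primeCompl = m.primeCompl := by
    ext x
    change x ∉ Ideal.comap (algebraMap A Af) q' ↔ x ∉ m
    rw [hq'c]
  have hloc : IsLocalization m.primeCompl (Localization.AtPrime q') := by
    rw [← hpc]
    exact IsLocalization.isLocalization_isLocalization_atPrime_isLocalization (.powers f)
      (Localization.AtPrime q') q'
  let e : Localization.AtPrime m ≃ₐ[A] Localization.AtPrime q' :=
    IsLocalization.algEquiv m.primeCompl (Localization.AtPrime m) (Localization.AtPrime q')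
  have hd' : ringKrullDim (Localization.AtPrime q') = n := by
    rw [← ringKrullDim_eq_of_ringEquiv e.toRingEquiv, hdim]
  have hψi := injective_of_surjective ψ hψs n hd hd'
  have hft : Algebra.FormallyEtale E.Ring (Localization.AtPrime p') :=
    Algebra.FormallyEtale.of_isLocalization p'.primeCompl
  have hft' : Algebra.FormallyEtale 𝒫 (Localization.AtPrime p') :=
    Algebra.FormallyEtale.comp 𝒫 E.Ring (Localization.AtPrime p')
  have hψa : ∀ x : 𝒫, ψ (algebraMap 𝒫 _ x) = algebraMap 𝒫 _ x := by
    intro x
    rw [IsScalarTower.algebraMap_apply 𝒫 E.Ring (Localization.AtPrime p')]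
    change Localization.localRingHom p' q' φ.toRingHom rfl _ = _
    rw [Localization.localRingHom_to_map]
    change algebraMap _ _ (φ (algebraMap 𝒫 E.Ring x)) = _
    rw [AlgHom.commutes]
    rfl
  let ε : Localization.AtPrime p' ≃ₐ[𝒫] Localization.AtPrime q' :=
    AlgEquiv.ofBijective { ψ with commutes' := hψa } ⟨hψi, hψs⟩
  have : Algebra.FormallyEtale 𝒫 (Localization.AtPrime q') := Algebra.FormallyEtale.of_equiv ε
  exact Algebra.FormallyEtale.of_equiv (e.symm.restrictScalars 𝒫)

end K653.PolyEtale
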