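import Groth.Agent.Unram.K653.EtSplit
import Mathlib.RingTheory.Spectrum.Prime.TensorProduct
import Mathlib.LinearAlgebra.Dimension.Constructions
import Mathlib.RingTheory.TensorProduct.Pi
import Mathlib.RingTheory.TensorProduct.Quotient
import Mathlib.LinearAlgebra.TensorProduct.Prod
import Mathlib.RingTheory.QuasiFinite.Basic

/-!
# Étale-local splitting of an unramified algebra around a prime of the base
-/

set_option autoImplicit false
universe u

open scoped TensorProduct

namespace K653.EtSplit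

variable {R S : Type u} [CommRing R] [CommRing S] [Algebra R S]

/-- Splitting off a point, with the base prime. -/
theorem exists_split_point (p : Ideal R) [p.IsPrime] (q : Ideal S) [q.IsPrime]
    (hq : q.comap (algebraMap R S) = p) [Algebra.FiniteType R S] [Algebra.IsUnramifiedAt R q] :
    ∃ (E : Type u) (_ : CommRing E) (_ : Algebra R E) (_ : Algebra.Etale R E) (p' : Ideal E)
      (_ : p'.IsPrime) (_ : p'.LiesOver p) (I : Ideal E) (_ : I ≤ p')
      (B : Type u) (_ : CommRing B) (_ : Algebra E B),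
      Nonempty ((E ⊗[R] S) ≃ₐ[E] ((E ⧸ I) × B)) := by
  obtain ⟨E, _, _, _, f, hf, φ, hφ, B, _, _, ε, hε⟩ := K653.EtSplit.exists_split (R := R) q
  let q' : Ideal (Localization.Away f) := q.map (algebraMap S (Localization.Away f))
  have hdisj : Disjoint (Submonoid.powers f : Set S) (q : Set S) := by
    rwa [Ideal.disjoint_powers_iff_notMem_of_isPrime]
  have hq'p : q'.IsPrime := IsLocalization.isPrime_of_isPrime_disjoint (.powers f) _ _ ‹_› hdisj
  have hq'c : q'.comap (algebraMap S (Localization.Away f)) = q :=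
    IsLocalization.under_map_of_isPrime_disjoint (.powers f) _ ‹_› hdisj
  let p' : Ideal E := q'.comap φ
  have hker : RingHom.ker φ ≤ p' := fun x hx => by
    change φ x ∈ q'
    rw [(hx : φ x = 0)]; exact q'.zero_mem
  refine ⟨E, inferInstance, inferInstance, inferInstance, p', inferInstance, ⟨?_⟩,
    RingHom.ker φ, hker, B, inferInstance, inferInstance, ⟨ε⟩⟩
  change _ = (q'.comap φ).comap (algebraMap R E)
  have h1 : (q'.comap φ).comap (algebraMap R E) =
      q'.comap (algebraMap R (Localization.Away f)) := by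
    ext x
    change φ (algebraMap R E x) ∈ q' ↔ _
    rw [AlgHom.commutes]
    rfl
  rw [h1, IsScalarTower.algebraMap_eq R S (Localization.Away f), ← Ideal.comap_comap, hq'c, hq]

/-- The conclusion of the splitting theorem. -/
def Good (R S : Type u) [CommRing R] [CommRing S] [Algebra R S] (p : Ideal R) : Prop :=
  ∃ (R' : Type u) (_ : CommRing R') (_ : Algebra R R') (_ : Algebra.Etale R R') (p' : Ideal R')
    (_ : p'.IsPrime) (_ : p'.LiesOver p) (n : ℕ) (I : Fin n → Ideal R')
    (B : Type u) (_ : CommRing B) (_ : Algebra R' B),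
    Nonempty ((R' ⊗[R] S) ≃ₐ[R'] ((∀ i, R' ⧸ I i) × B)) ∧ (∀ i, I i ≤ p') ∧
      ∀ (q : Ideal B) [q.IsPrime], q.comap (algebraMap R' B) ≠ p'

/-- Consing a factor onto a product of quotients. -/
noncomputable def consEquiv {R' : Type u} [CommRing R'] {n : ℕ} (J : Ideal R') (I : Fin n → Ideal R') :
    (∀ i, R' ⧸ (Fin.cons J I : Fin (n + 1) → Ideal R') i) ≃ₐ[R'] (R' ⧸ J) × (∀ i, R' ⧸ I i) :=
  AlgEquiv.ofBijective
    { toFun := fun f => (f 0, fun i => f i.succ)
      map_one' := rfl
      map_mul' := fun _ _ => rfl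
      map_zero' := rfl
      map_add' := fun _ _ => rfl
      commutes' := fun _ => rfl }
    ⟨fun f g h => by
      funext i
      refine Fin.cases ?_ (fun i => ?_) i
      · exact congrArg Prod.fst h
      · exact congrFun (congrArg Prod.snd h) i,
    fun x => ⟨Fin.cons (α := fun i => R' ⧸ (Fin.cons J I : Fin (n + 1) → Ideal R') i) x.1 x.2, rfl⟩⟩

theorem good_of_no_prime (p : Ideal R) [p.IsPrime]
    (h : ∀ (q : Ideal S) [q.IsPrime], q.comap (algebraMap R S) ≠ p) : Good R S p := by
  refine ⟨R, inferInstance, inferInstance, inferInstance, p, inferInstance, ⟨rfl⟩, 0,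
    fun i => i.elim0, S, inferInstance, inferInstance, ⟨?_⟩, fun i => i.elim0, h⟩
  refine (Algebra.TensorProduct.lid R S).trans ?_
  exact AlgEquiv.ofBijective
    { toFun := fun s => (fun i => i.elim0, s)
      map_one' := Prod.ext (Subsingleton.elim _ _) rfl
      map_mul' := fun _ _ => Prod.ext (Subsingleton.elim _ _) rfl
      map_zero' := Prod.ext (Subsingleton.elim _ _) rfl
      map_add' := fun _ _ => Prod.ext (Subsingleton.elim _ _) rfl
      commutes' := fun _ => Prod.ext (Subsingleton.elim _ _) rfl }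
    ⟨fun a b h => congrArg Prod.snd h, fun x => ⟨x.2, Prod.ext (Subsingleton.elim _ _) rfl⟩⟩

theorem good_step (p : Ideal R) {E : Type u} [CommRing E] [Algebra R E] [Algebra.Etale R E]
    (p' : Ideal E) [p'.LiesOver p] (I : Ideal E) (hI : I ≤ p') {B : Type u} [CommRing B]
    [Algebra E B] (ε : (E ⊗[R] S) ≃ₐ[E] ((E ⧸ I) × B)) (h : Good E B p') : Good R S p := by
  obtain ⟨E', _, _, _, p'', _, _, n, I', B', _, _, ⟨η⟩, hI', hB'⟩ := h
  let _ : Algebra R E' := ((algebraMap E E').comp (algebraMap R E)).toAlgebra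
  have : IsScalarTower R E E' := IsScalarTower.of_algebraMap_eq fun _ => rfl
  have : Algebra.Etale R E' := Algebra.Etale.comp R E E'
  have : p''.LiesOver p := Ideal.LiesOver.trans p'' p' p
  refine ⟨E', inferInstance, inferInstance, inferInstance, p'', inferInstance, inferInstance, n + 1,
    Fin.cons (I.map (algebraMap E E')) I', B', inferInstance, inferInstance, ⟨?_⟩, ?_, hB'⟩
  · let e1 : (E' ⊗[R] S) ≃ₐ[E'] (E' ⊗[E] (E ⊗[R] S)) :=
      (Algebra.TensorProduct.cancelBaseChange R E E' E' S).symm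
    let e2 : (E' ⊗[E] (E ⊗[R] S)) ≃ₐ[E'] E' ⊗[E] ((E ⧸ I) × B) :=
      Algebra.TensorProduct.congr AlgEquiv.refl ε
    let e3 : E' ⊗[E] ((E ⧸ I) × B) ≃ₐ[E'] (E' ⊗[E] (E ⧸ I)) × (E' ⊗[E] B) :=
      Algebra.TensorProduct.prodRight E E' E' (E ⧸ I) B
    let e4 : E' ⊗[E] (E ⧸ I) ≃ₐ[E'] E' ⧸ I.map (algebraMap E E') :=
      (Algebra.TensorProduct.quotIdealMapEquivTensorQuot E' I).symm
    let e5 : ((E' ⧸ I.map (algebraMap E E')) × ((∀ i, E' ⧸ I' i) × B')) ≃ₐ[E']
        (((E' ⧸ I.map (algebraMap E E')) × (∀ i, E' ⧸ I' i)) × B') :=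
      { toFun := fun x => ((x.1, x.2.1), x.2.2)
        invFun := fun x => (x.1.1, (x.1.2, x.2))
        left_inv := fun _ => rfl
        right_inv := fun _ => rfl
        map_mul' := fun _ _ => rfl
        map_add' := fun _ _ => rfl
        commutes' := fun _ => rfl }
    exact ((((e1.trans e2).trans e3).trans (AlgEquiv.prodCongr e4 η)).trans e5).trans
      (AlgEquiv.prodCongr (consEquiv _ _).symm AlgEquiv.refl)
  · intro i
    refine Fin.cases ?_ (fun i => ?_) i
    · change I.map (algebraMap E E') ≤ p''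
      rw [Ideal.map_le_iff_le_comap]
      exact hI.trans (Ideal.LiesOver.over (p := p') (P := p'')).le
    · exact hI' i

theorem finrank_lt_aux (k : Type u) [Field k] [Algebra R k] [Module.Finite k (k ⊗[R] S)]
    {E : Type u} [CommRing E] [Algebra R E] (K : Type u) [Field K] [Algebra E K] [Algebra R K]
    [IsScalarTower R E K] [Algebra k K] [IsScalarTower R k K] (I : Ideal E)
    (hI : I ≤ RingHom.ker (algebraMap E K)) {B : Type u} [CommRing B]
    [Algebra E B] (ε : (E ⊗[R] S) ≃ₐ[E] ((E ⧸ I) × B)) :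
    Module.Finite K (K ⊗[E] B) ∧
    Module.finrank K (K ⊗[E] B) < Module.finrank k (k ⊗[R] S) := by
  let e1 : K ⊗[k] (k ⊗[R] S) ≃ₐ[K] K ⊗[R] S := Algebra.TensorProduct.cancelBaseChange R k K K S
  let e2 : K ⊗[E] (E ⊗[R] S) ≃ₐ[K] K ⊗[R] S := Algebra.TensorProduct.cancelBaseChange R E K K S
  let e3 : K ⊗[E] (E ⊗[R] S) ≃ₐ[K] K ⊗[E] ((E ⧸ I) × B) :=
    Algebra.TensorProduct.congr AlgEquiv.refl ε
  let e4 : K ⊗[E] ((E ⧸ I) × B) ≃ₐ[K] (K ⊗[E] (E ⧸ I)) × (K ⊗[E] B) :=
    Algebra.TensorProduct.prodRight E K K (E ⧸ I) B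
  let e : K ⊗[k] (k ⊗[R] S) ≃ₐ[K] (K ⊗[E] (E ⧸ I)) × (K ⊗[E] B) :=
    ((e1.trans e2.symm).trans e3).trans e4
  have h1 : Module.Finite K ((K ⊗[E] (E ⧸ I)) × (K ⊗[E] B)) := Module.Finite.equiv e.toLinearEquiv
  have h2 : Module.Finite K (K ⊗[E] (E ⧸ I)) :=
    Module.Finite.of_surjective (LinearMap.fst K (K ⊗[E] (E ⧸ I)) (K ⊗[E] B)) Prod.fst_surjective
  have h3 : Module.Finite K (K ⊗[E] B) :=
    Module.Finite.of_surjective (LinearMap.snd K (K ⊗[E] (E ⧸ I)) (K ⊗[E] B)) Prod.snd_surjective
  have h4 := e.toLinearEquiv.finrank_eq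
  rw [Module.finrank_baseChange, Module.finrank_prod] at h4
  have h5 : Nontrivial (K ⊗[E] (E ⧸ I)) := by
    let g : K ⊗[E] (E ⧸ I) →ₐ[E] K :=
      Algebra.TensorProduct.lift (AlgHom.id E K)
        (Ideal.Quotient.liftₐ I (Algebra.ofId E K) (fun a ha => hI ha)) (fun _ _ => mul_comm _ _)
    exact g.toRingHom.domain_nontrivial
  have h6 : 0 < Module.finrank K (K ⊗[E] (E ⧸ I)) := Module.finrank_pos
  refine ⟨h3, ?_⟩
  omega

theorem finrank_fiber_lt (p : Ideal R) [p.IsPrime] [Module.Finite p.ResidueField (p.Fiber S)]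
    {E : Type u} [CommRing E] [Algebra R E]
    (p' : Ideal E) [p'.IsPrime] [p'.LiesOver p] (I : Ideal E) (hI : I ≤ p') {B : Type u} [CommRing B]
    [Algebra E B] (ε : (E ⊗[R] S) ≃ₐ[E] ((E ⧸ I) × B)) :
    Module.Finite p'.ResidueField (p'.Fiber B) ∧
    Module.finrank p'.ResidueField (p'.Fiber B) < Module.finrank p.ResidueField (p.Fiber S) := by
  let _ : Algebra R p'.ResidueField := ((algebraMap E p'.ResidueField).comp (algebraMap R E)).toAlgebra
  have : IsScalarTower R E p'.ResidueField := IsScalarTower.of_algebraMap_eq fun _ => rfl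
  let _ : Algebra p.ResidueField p'.ResidueField :=
    (Ideal.ResidueField.map p p' (algebraMap R E) (Ideal.LiesOver.over (p := p) (P := p'))).toAlgebra
  have : IsScalarTower R p.ResidueField p'.ResidueField := by
    refine IsScalarTower.of_algebraMap_eq fun x => ?_
    exact (Ideal.ResidueField.map_algebraMap _ _ _ (Ideal.LiesOver.over (p := p) (P := p')) x).symm
  refine finrank_lt_aux p.ResidueField p'.ResidueField I (fun x hx => ?_) ε
  rw [RingHom.mem_ker, Ideal.algebraMap_residueField_eq_zero]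
  exact hI hx

theorem good_of_unramified (d : ℕ) : ∀ (R S : Type u) [CommRing R] [CommRing S] [Algebra R S]
    [Algebra.FiniteType R S] [Algebra.FormallyUnramified R S] (p : Ideal R) [p.IsPrime]
    [Module.Finite p.ResidueField (p.Fiber S)],
    Module.finrank p.ResidueField (p.Fiber S) ≤ d → Good R S p := by
  induction d with
  | zero =>
    intro R S _ _ _ _ _ p _ _ hd
    apply good_of_no_prime
    intro q _ hq
    have h0 : Module.finrank p.ResidueField (p.Fiber S) = 0 := by omega
    have hs : Subsingleton (p.Fiber S) := Module.finrank_zero_iff.1 h0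
    have hne : Nonempty (PrimeSpectrum (p.Fiber S)) :=
      ⟨PrimeSpectrum.preimageEquivFiber R S ⟨p, inferInstance⟩ ⟨⟨q, inferInstance⟩,
        PrimeSpectrum.ext hq⟩⟩
    exact not_nontrivial_iff_subsingleton.2 hs (PrimeSpectrum.nonempty_iff_nontrivial.1 hne)
  | succ d ih =>
    intro R S _ _ _ _ _ p _ _ hd
    by_cases hex : ∀ (q : Ideal S) [q.IsPrime], q.comap (algebraMap R S) ≠ p
    · exact good_of_no_prime p hex
    · push Not at hex
      obtain ⟨q, hq, hqp⟩ := hex
      obtain ⟨E, _, _, _, p', _, _, I, hI, B, _, _, ⟨ε⟩⟩ := exists_split_point p q hqp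
      obtain ⟨hfin, hlt⟩ := finrank_fiber_lt p p' I hI ε
      let π : (E ⊗[R] S) →ₐ[E] B := (AlgHom.snd E (E ⧸ I) B).comp ε.toAlgHom
      have hπ : Function.Surjective π := fun b => ⟨ε.symm (0, b), by
        change (ε (ε.symm (0, b))).2 = b
        rw [AlgEquiv.apply_symm_apply]⟩
      have : Algebra.FiniteType E B := Algebra.FiniteType.of_surjective π hπ
      have : Algebra.FormallyUnramified E B := Algebra.FormallyUnramified.of_surjective π hπ
      exact good_step p p' I hI ε (ih E B p' (by omega))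

theorem good_of_unramified' (p : Ideal R) [p.IsPrime] [Algebra.FiniteType R S]
    [Algebra.FormallyUnramified R S] : Good R S p := by
  have : Module.Finite p.ResidueField (p.Fiber S) := Algebra.QuasiFinite.finite_fiber p
  exact good_of_unramified _ R S p le_rfl

end K653.EtSplit
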