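import Mathlib.RingTheory.Unramified.LocalStructure
import Mathlib.RingTheory.Idempotents
import Mathlib.RingTheory.Ideal.IdempotentFG
import Mathlib.RingTheory.Etale.Basic

/-!
# Étale-local splitting off of a point of an unramified algebra

`exists_split`: if `R → S` is of finite type and unramified at a prime `q`, there are an étale
`R`-algebra `R'` and a surjection `φ : R' → S_f`, `f ∉ q`, such that the induced surjection
`R' ⊗ S → S_f` is the projection onto a factor.
-/

set_option autoImplicit false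
universe u

open scoped TensorProduct

namespace K653.EtSplit

variable {R S : Type u} [CommRing R] [CommRing S] [Algebra R S]

/-- The map `E ⊗ S → T` defined by `φ : E → T` and the structure map `S → T`. -/
noncomputable def pi {E T : Type u} [CommRing E] [Algebra R E] [CommRing T] [Algebra R T]
    [Algebra S T] [IsScalarTower R S T] (φ : E →ₐ[R] T) : E ⊗[R] S →ₐ[R] T :=
  Algebra.TensorProduct.lift φ (IsScalarTower.toAlgHom R S T) (fun _ _ => Commute.all _ _)

theorem pi_tmul {E T : Type u} [CommRing E] [Algebra R E] [CommRing T] [Algebra R T]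
    [Algebra S T] [IsScalarTower R S T] (φ : E →ₐ[R] T) (x : E) (s : S) :
    pi (S := S) φ (x ⊗ₜ s) = φ x * algebraMap S T s := by
  rw [pi, Algebra.TensorProduct.lift_tmul]; rfl

theorem pi_surjective {E T : Type u} [CommRing E] [Algebra R E] [CommRing T] [Algebra R T]
    [Algebra S T] [IsScalarTower R S T] (φ : E →ₐ[R] T) (hφ : Function.Surjective φ) :
    Function.Surjective (pi (S := S) φ) := by
  intro x
  obtain ⟨y, rfl⟩ := hφ x
  exact ⟨y ⊗ₜ 1, by rw [pi_tmul, map_one, mul_one]⟩

/-- If `E` is étale over `R` and `T` is étale over `S`, with `φ : E → T` surjective, then the kernel of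
`E ⊗ S → T` is generated by an idempotent. -/
theorem exists_idempotent {E T : Type u} [CommRing E] [Algebra R E] [CommRing T] [Algebra R T]
    [Algebra S T] [IsScalarTower R S T] [Algebra.Etale R E] [Algebra.Etale S T] (φ : E →ₐ[R] T)
    (hφ : Function.Surjective φ) :
    ∃ e : E ⊗[R] S, IsIdempotentElem e ∧ RingHom.ker (pi (S := S) φ) = Ideal.span {e} := by
  let _ : Algebra S (E ⊗[R] S) := Algebra.TensorProduct.rightAlgebra
  let _ : Algebra (E ⊗[R] S) T := (pi (S := S) φ).toRingHom.toAlgebra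
  have hst : IsScalarTower S (E ⊗[R] S) T := by
    refine IsScalarTower.of_algebraMap_eq fun s => ?_
    change _ = pi (S := S) φ (1 ⊗ₜ s)
    rw [pi_tmul, map_one, one_mul]
  have h1 : Algebra.Etale S (E ⊗[R] S) := by
    have : Algebra.Etale S (S ⊗[R] E) := inferInstance
    let ε : S ⊗[R] E ≃ₐ[S] E ⊗[R] S :=
      { Algebra.TensorProduct.comm R S E with
        commutes' := fun s => by
          change Algebra.TensorProduct.comm R S E (s ⊗ₜ 1) = _
          rw [Algebra.TensorProduct.comm_tmul]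
          rfl }
    exact Algebra.Etale.of_equiv ε
  have h2 : Algebra.Etale (E ⊗[R] S) T := Algebra.Etale.of_restrictScalars S (E ⊗[R] S) T
  have hs : Function.Surjective (algebraMap (E ⊗[R] S) T) := pi_surjective φ hφ
  have h3 : IsIdempotentElem (RingHom.ker (algebraMap (E ⊗[R] S) T)) :=
    (Algebra.FormallyEtale.iff_of_surjective hs).1 inferInstance
  have h4 : (RingHom.ker (algebraMap (E ⊗[R] S) T)).FG :=
    Algebra.FinitePresentation.ker_fG_of_surjective (Algebra.ofId (E ⊗[R] S) T) hs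
  obtain ⟨e, he, hk⟩ := (Ideal.isIdempotentElem_iff_of_fg _ h4).1 h3
  exact ⟨e, he, hk⟩

/-- Étale-locally on the base, a point of an unramified algebra can be split off. -/
theorem exists_split (q : Ideal S) [q.IsPrime] [Algebra.FiniteType R S]
    [Algebra.IsUnramifiedAt R q] :
    ∃ (E : Type u) (_ : CommRing E) (_ : Algebra R E) (_ : Algebra.Etale R E) (f : S) (_ : f ∉ q)
      (φ : E →ₐ[R] Localization.Away f) (_ : Function.Surjective φ)
      (B : Type u) (_ : CommRing B) (_ : Algebra E B)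
      (ε : (E ⊗[R] S) ≃ₐ[E] ((E ⧸ RingHom.ker φ) × B)),
      ∀ (s : S) (x : E), (ε (1 ⊗ₜ s)).1 = Ideal.Quotient.mk _ x → φ x = algebraMap S _ s := by
  obtain ⟨f, hf, P, φ, hφ⟩ := Algebra.IsUnramifiedAt.exists_hasStandardEtaleSurjectionOn (R := R) q
  have hT : Algebra.Etale S (Localization.Away f) := Algebra.Etale.of_isLocalizationAway f
  obtain ⟨e, he, hk⟩ := exists_idempotent (S := S) φ hφ
  let e₁ := AlgEquiv.prodQuotientOfIsIdempotentElem (R := P.Ring) he he.one_sub (by simp)
    (by simp [mul_sub, he.eq])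
  have hk1 : ∀ x : P.Ring, pi (S := S) φ (x ⊗ₜ 1) = φ x := fun x => by
    rw [pi_tmul, map_one, mul_one]
  have hsurj : Function.Surjective (Algebra.ofId P.Ring ((P.Ring ⊗[R] S) ⧸ Ideal.span {e})) := by
    intro y
    obtain ⟨t, rfl⟩ := Ideal.Quotient.mk_surjective y
    obtain ⟨x, hx⟩ := hφ (pi (S := S) φ t)
    refine ⟨x, ?_⟩
    change Ideal.Quotient.mk _ (x ⊗ₜ 1) = _
    rw [Ideal.Quotient.mk_eq_mk_iff_sub_mem, ← hk, RingHom.mem_ker, map_sub, hk1, hx, sub_self]
  have hker : RingHom.ker (Algebra.ofId P.Ring ((P.Ring ⊗[R] S) ⧸ Ideal.span {e})) =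
      RingHom.ker φ := by
    ext x
    change Ideal.Quotient.mk _ (x ⊗ₜ 1) = 0 ↔ _
    rw [Ideal.Quotient.eq_zero_iff_mem, ← hk, RingHom.mem_ker, hk1, RingHom.mem_ker]
  let e₂ : (P.Ring ⧸ RingHom.ker φ) ≃ₐ[P.Ring] ((P.Ring ⊗[R] S) ⧸ Ideal.span {e}) :=
    (Ideal.quotientEquivAlgOfEq P.Ring hker.symm).trans
      (Ideal.quotientKerAlgEquivOfSurjective hsurj)
  refine ⟨P.Ring, inferInstance, inferInstance, inferInstance, f, hf, φ, hφ,
    (P.Ring ⊗[R] S) ⧸ Ideal.span {1 - e}, inferInstance, inferInstance,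
    e₁.trans (AlgEquiv.prodCongr e₂.symm AlgEquiv.refl), fun s x h => ?_⟩
  have h1 : e₂.symm (Ideal.Quotient.mk _ ((1 : P.Ring) ⊗ₜ[R] s)) = Ideal.Quotient.mk _ x := h
  rw [AlgEquiv.symm_apply_eq] at h1
  have h2 : e₂ (Ideal.Quotient.mk _ x) = Ideal.Quotient.mk _ (x ⊗ₜ 1) := rfl
  rw [h2, Ideal.Quotient.mk_eq_mk_iff_sub_mem, ← hk, RingHom.mem_ker, map_sub, hk1, pi_tmul,
    map_one, one_mul, sub_eq_zero] at h1
  exact h1.symm

end K653.EtSplit
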